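import Cfsg.Agent.Lib.Helper28.Fi23Ord.C14080.ChkDefs

set_option autoImplicit false
set_option linter.unusedVariables false
set_option Elab.async false

namespace Cfsg.Agent.Lib.Helper28.Fi23Ord.C14080

open Cfsg.Agent.Lib.Helper28.Fi23Sub.Q9 (Gen)
open Cfsg.Agent.Lib.Helper28.TC

noncomputable section

theorem permP_blk192 : allRange (guard nn permP) 5 (192 * 2 ^ 5) = true := by decide +kernel
theorem permP_blk193 : allRange (guard nn permP) 5 (193 * 2 ^ 5) = true := by decide +kernel
theorem permP_blk194 : allRange (guard nn permP) 5 (194 * 2 ^ 5) = true := by decide +kernel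
theorem permP_blk195 : allRange (guard nn permP) 5 (195 * 2 ^ 5) = true := by decide +kernel
theorem permP_blk196 : allRange (guard nn permP) 5 (196 * 2 ^ 5) = true := by decide +kernel
theorem permP_blk197 : allRange (guard nn permP) 5 (197 * 2 ^ 5) = true := by decide +kernel
theorem permP_blk198 : allRange (guard nn permP) 5 (198 * 2 ^ 5) = true := by decide +kernel
theorem permP_blk199 : allRange (guard nn permP) 5 (199 * 2 ^ 5) = true := by decide +kernel
theorem permP_blk200 : allRange (guard nn permP) 5 (200 * 2 ^ 5) = true := by decide +kernel
theorem permP_blk201 : allRange (guard nn permP) 5 (201 * 2 ^ 5) = true := by decide +kernel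
theorem permP_blk202 : allRange (guard nn permP) 5 (202 * 2 ^ 5) = true := by decide +kernel
theorem permP_blk203 : allRange (guard nn permP) 5 (203 * 2 ^ 5) = true := by decide +kernel
theorem permP_blk204 : allRange (guard nn permP) 5 (204 * 2 ^ 5) = true := by decide +kernel
theorem permP_blk205 : allRange (guard nn permP) 5 (205 * 2 ^ 5) = true := by decide +kernel
theorem permP_blk206 : allRange (guard nn permP) 5 (206 * 2 ^ 5) = true := by decide +kernel
theorem permP_blk207 : allRange (guard nn permP) 5 (207 * 2 ^ 5) = true := by decide +kernel
theorem permP_blk208 : allRange (guard nn permP) 5 (208 * 2 ^ 5) = true := by decide +kernel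
theorem permP_blk209 : allRange (guard nn permP) 5 (209 * 2 ^ 5) = true := by decide +kernel
theorem permP_blk210 : allRange (guard nn permP) 5 (210 * 2 ^ 5) = true := by decide +kernel
theorem permP_blk211 : allRange (guard nn permP) 5 (211 * 2 ^ 5) = true := by decide +kernel
theorem permP_blk212 : allRange (guard nn permP) 5 (212 * 2 ^ 5) = true := by decide +kernel
theorem permP_blk213 : allRange (guard nn permP) 5 (213 * 2 ^ 5) = true := by decide +kernel
theorem permP_blk214 : allRange (guard nn permP) 5 (214 * 2 ^ 5) = true := by decide +kernel
theorem permP_blk215 : allRange (guard nn permP) 5 (215 * 2 ^ 5) = true := by decide +kernel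
theorem permP_blk216 : allRange (guard nn permP) 5 (216 * 2 ^ 5) = true := by decide +kernel
theorem permP_blk217 : allRange (guard nn permP) 5 (217 * 2 ^ 5) = true := by decide +kernel
theorem permP_blk218 : allRange (guard nn permP) 5 (218 * 2 ^ 5) = true := by decide +kernel
theorem permP_blk219 : allRange (guard nn permP) 5 (219 * 2 ^ 5) = true := by decide +kernel
theorem permP_blk220 : allRange (guard nn permP) 5 (220 * 2 ^ 5) = true := by decide +kernel
theorem permP_blk221 : allRange (guard nn permP) 5 (221 * 2 ^ 5) = true := by decide +kernel
theorem permP_blk222 : allRange (guard nn permP) 5 (222 * 2 ^ 5) = true := by decide +kernel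
theorem permP_blk223 : allRange (guard nn permP) 5 (223 * 2 ^ 5) = true := by decide +kernel
theorem permP_blk224 : allRange (guard nn permP) 5 (224 * 2 ^ 5) = true := by decide +kernel
theorem permP_blk225 : allRange (guard nn permP) 5 (225 * 2 ^ 5) = true := by decide +kernel
theorem permP_blk226 : allRange (guard nn permP) 5 (226 * 2 ^ 5) = true := by decide +kernel
theorem permP_blk227 : allRange (guard nn permP) 5 (227 * 2 ^ 5) = true := by decide +kernel
theorem permP_blk228 : allRange (guard nn permP) 5 (228 * 2 ^ 5) = true := by decide +kernel
theorem permP_blk229 : allRange (guard nn permP) 5 (229 * 2 ^ 5) = true := by decide +kernel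
theorem permP_blk230 : allRange (guard nn permP) 5 (230 * 2 ^ 5) = true := by decide +kernel
theorem permP_blk231 : allRange (guard nn permP) 5 (231 * 2 ^ 5) = true := by decide +kernel
theorem permP_blk232 : allRange (guard nn permP) 5 (232 * 2 ^ 5) = true := by decide +kernel
theorem permP_blk233 : allRange (guard nn permP) 5 (233 * 2 ^ 5) = true := by decide +kernel
theorem permP_blk234 : allRange (guard nn permP) 5 (234 * 2 ^ 5) = true := by decide +kernel
theorem permP_blk235 : allRange (guard nn permP) 5 (235 * 2 ^ 5) = true := by decide +kernel
theorem permP_blk236 : allRange (guard nn permP) 5 (236 * 2 ^ 5) = true := by decide +kernel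
theorem permP_blk237 : allRange (guard nn permP) 5 (237 * 2 ^ 5) = true := by decide +kernel
theorem permP_blk238 : allRange (guard nn permP) 5 (238 * 2 ^ 5) = true := by decide +kernel
theorem permP_blk239 : allRange (guard nn permP) 5 (239 * 2 ^ 5) = true := by decide +kernel
theorem permP_f4 : ∀ k, 192 ≤ k → k < 240 → allRange (guard nn permP) 5 (k * 2 ^ 5) = true := by
  intro k h1 h2
  interval_cases k
  · exact permP_blk192
  · exact permP_blk193
  · exact permP_blk194
  · exact permP_blk195
  · exact permP_blk196
  · exact permP_blk197
  · exact permP_blk198
  · exact permP_blk199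
  · exact permP_blk200
  · exact permP_blk201
  · exact permP_blk202
  · exact permP_blk203
  · exact permP_blk204
  · exact permP_blk205
  · exact permP_blk206
  · exact permP_blk207
  · exact permP_blk208
  · exact permP_blk209
  · exact permP_blk210
  · exact permP_blk211
  · exact permP_blk212
  · exact permP_blk213
  · exact permP_blk214
  · exact permP_blk215
  · exact permP_blk216
  · exact permP_blk217
  · exact permP_blk218
  · exact permP_blk219
  · exact permP_blk220
  · exact permP_blk221
  · exact permP_blk222
  · exact permP_blk223
  · exact permP_blk224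
  · exact permP_blk225
  · exact permP_blk226
  · exact permP_blk227
  · exact permP_blk228
  · exact permP_blk229
  · exact permP_blk230
  · exact permP_blk231
  · exact permP_blk232
  · exact permP_blk233
  · exact permP_blk234
  · exact permP_blk235
  · exact permP_blk236
  · exact permP_blk237
  · exact permP_blk238
  · exact permP_blk239

end

end Cfsg.Agent.Lib.Helper28.Fi23Ord.C14080
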