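import Cfsg.Agent.Lib.Helper28.Fi23Ord.C14080.ChkDefs

set_option autoImplicit false
set_option linter.unusedVariables false
set_option Elab.async false

namespace Cfsg.Agent.Lib.Helper28.Fi23Ord.C14080

open Cfsg.Agent.Lib.Helper28.Fi23Sub.Q9 (Gen)
open Cfsg.Agent.Lib.Helper28.TC

noncomputable section

theorem permP_blk288 : allRange (guard nn permP) 5 (288 * 2 ^ 5) = true := by decide +kernel
theorem permP_blk289 : allRange (guard nn permP) 5 (289 * 2 ^ 5) = true := by decide +kernel
theorem permP_blk290 : allRange (guard nn permP) 5 (290 * 2 ^ 5) = true := by decide +kernel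
theorem permP_blk291 : allRange (guard nn permP) 5 (291 * 2 ^ 5) = true := by decide +kernel
theorem permP_blk292 : allRange (guard nn permP) 5 (292 * 2 ^ 5) = true := by decide +kernel
theorem permP_blk293 : allRange (guard nn permP) 5 (293 * 2 ^ 5) = true := by decide +kernel
theorem permP_blk294 : allRange (guard nn permP) 5 (294 * 2 ^ 5) = true := by decide +kernel
theorem permP_blk295 : allRange (guard nn permP) 5 (295 * 2 ^ 5) = true := by decide +kernel
theorem permP_blk296 : allRange (guard nn permP) 5 (296 * 2 ^ 5) = true := by decide +kernel
theorem permP_blk297 : allRange (guard nn permP) 5 (297 * 2 ^ 5) = true := by decide +kernel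
theorem permP_blk298 : allRange (guard nn permP) 5 (298 * 2 ^ 5) = true := by decide +kernel
theorem permP_blk299 : allRange (guard nn permP) 5 (299 * 2 ^ 5) = true := by decide +kernel
theorem permP_blk300 : allRange (guard nn permP) 5 (300 * 2 ^ 5) = true := by decide +kernel
theorem permP_blk301 : allRange (guard nn permP) 5 (301 * 2 ^ 5) = true := by decide +kernel
theorem permP_blk302 : allRange (guard nn permP) 5 (302 * 2 ^ 5) = true := by decide +kernel
theorem permP_blk303 : allRange (guard nn permP) 5 (303 * 2 ^ 5) = true := by decide +kernel
theorem permP_blk304 : allRange (guard nn permP) 5 (304 * 2 ^ 5) = true := by decide +kernel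
theorem permP_blk305 : allRange (guard nn permP) 5 (305 * 2 ^ 5) = true := by decide +kernel
theorem permP_blk306 : allRange (guard nn permP) 5 (306 * 2 ^ 5) = true := by decide +kernel
theorem permP_blk307 : allRange (guard nn permP) 5 (307 * 2 ^ 5) = true := by decide +kernel
theorem permP_blk308 : allRange (guard nn permP) 5 (308 * 2 ^ 5) = true := by decide +kernel
theorem permP_blk309 : allRange (guard nn permP) 5 (309 * 2 ^ 5) = true := by decide +kernel
theorem permP_blk310 : allRange (guard nn permP) 5 (310 * 2 ^ 5) = true := by decide +kernel
theorem permP_blk311 : allRange (guard nn permP) 5 (311 * 2 ^ 5) = true := by decide +kernel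
theorem permP_blk312 : allRange (guard nn permP) 5 (312 * 2 ^ 5) = true := by decide +kernel
theorem permP_blk313 : allRange (guard nn permP) 5 (313 * 2 ^ 5) = true := by decide +kernel
theorem permP_blk314 : allRange (guard nn permP) 5 (314 * 2 ^ 5) = true := by decide +kernel
theorem permP_blk315 : allRange (guard nn permP) 5 (315 * 2 ^ 5) = true := by decide +kernel
theorem permP_blk316 : allRange (guard nn permP) 5 (316 * 2 ^ 5) = true := by decide +kernel
theorem permP_blk317 : allRange (guard nn permP) 5 (317 * 2 ^ 5) = true := by decide +kernel
theorem permP_blk318 : allRange (guard nn permP) 5 (318 * 2 ^ 5) = true := by decide +kernel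
theorem permP_blk319 : allRange (guard nn permP) 5 (319 * 2 ^ 5) = true := by decide +kernel
theorem permP_blk320 : allRange (guard nn permP) 5 (320 * 2 ^ 5) = true := by decide +kernel
theorem permP_blk321 : allRange (guard nn permP) 5 (321 * 2 ^ 5) = true := by decide +kernel
theorem permP_blk322 : allRange (guard nn permP) 5 (322 * 2 ^ 5) = true := by decide +kernel
theorem permP_blk323 : allRange (guard nn permP) 5 (323 * 2 ^ 5) = true := by decide +kernel
theorem permP_blk324 : allRange (guard nn permP) 5 (324 * 2 ^ 5) = true := by decide +kernel
theorem permP_blk325 : allRange (guard nn permP) 5 (325 * 2 ^ 5) = true := by decide +kernel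
theorem permP_blk326 : allRange (guard nn permP) 5 (326 * 2 ^ 5) = true := by decide +kernel
theorem permP_blk327 : allRange (guard nn permP) 5 (327 * 2 ^ 5) = true := by decide +kernel
theorem permP_blk328 : allRange (guard nn permP) 5 (328 * 2 ^ 5) = true := by decide +kernel
theorem permP_blk329 : allRange (guard nn permP) 5 (329 * 2 ^ 5) = true := by decide +kernel
theorem permP_blk330 : allRange (guard nn permP) 5 (330 * 2 ^ 5) = true := by decide +kernel
theorem permP_blk331 : allRange (guard nn permP) 5 (331 * 2 ^ 5) = true := by decide +kernel
theorem permP_blk332 : allRange (guard nn permP) 5 (332 * 2 ^ 5) = true := by decide +kernel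
theorem permP_blk333 : allRange (guard nn permP) 5 (333 * 2 ^ 5) = true := by decide +kernel
theorem permP_blk334 : allRange (guard nn permP) 5 (334 * 2 ^ 5) = true := by decide +kernel
theorem permP_blk335 : allRange (guard nn permP) 5 (335 * 2 ^ 5) = true := by decide +kernel
theorem permP_f6 : ∀ k, 288 ≤ k → k < 336 → allRange (guard nn permP) 5 (k * 2 ^ 5) = true := by
  intro k h1 h2
  interval_cases k
  · exact permP_blk288
  · exact permP_blk289
  · exact permP_blk290
  · exact permP_blk291
  · exact permP_blk292
  · exact permP_blk293
  · exact permP_blk294
  · exact permP_blk295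
  · exact permP_blk296
  · exact permP_blk297
  · exact permP_blk298
  · exact permP_blk299
  · exact permP_blk300
  · exact permP_blk301
  · exact permP_blk302
  · exact permP_blk303
  · exact permP_blk304
  · exact permP_blk305
  · exact permP_blk306
  · exact permP_blk307
  · exact permP_blk308
  · exact permP_blk309
  · exact permP_blk310
  · exact permP_blk311
  · exact permP_blk312
  · exact permP_blk313
  · exact permP_blk314
  · exact permP_blk315
  · exact permP_blk316
  · exact permP_blk317
  · exact permP_blk318
  · exact permP_blk319
  · exact permP_blk320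
  · exact permP_blk321
  · exact permP_blk322
  · exact permP_blk323
  · exact permP_blk324
  · exact permP_blk325
  · exact permP_blk326
  · exact permP_blk327
  · exact permP_blk328
  · exact permP_blk329
  · exact permP_blk330
  · exact permP_blk331
  · exact permP_blk332
  · exact permP_blk333
  · exact permP_blk334
  · exact permP_blk335

end

end Cfsg.Agent.Lib.Helper28.Fi23Ord.C14080
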