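import Cfsg.Agent.Lib.Helper28.Fi23Ord.C14080.ChkDefs

set_option autoImplicit false
set_option linter.unusedVariables false
set_option Elab.async false

namespace Cfsg.Agent.Lib.Helper28.Fi23Ord.C14080

open Cfsg.Agent.Lib.Helper28.Fi23Sub.Q9 (Gen)
open Cfsg.Agent.Lib.Helper28.TC

noncomputable section

theorem permP_blk336 : allRange (guard nn permP) 5 (336 * 2 ^ 5) = true := by decide +kernel
theorem permP_blk337 : allRange (guard nn permP) 5 (337 * 2 ^ 5) = true := by decide +kernel
theorem permP_blk338 : allRange (guard nn permP) 5 (338 * 2 ^ 5) = true := by decide +kernel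
theorem permP_blk339 : allRange (guard nn permP) 5 (339 * 2 ^ 5) = true := by decide +kernel
theorem permP_blk340 : allRange (guard nn permP) 5 (340 * 2 ^ 5) = true := by decide +kernel
theorem permP_blk341 : allRange (guard nn permP) 5 (341 * 2 ^ 5) = true := by decide +kernel
theorem permP_blk342 : allRange (guard nn permP) 5 (342 * 2 ^ 5) = true := by decide +kernel
theorem permP_blk343 : allRange (guard nn permP) 5 (343 * 2 ^ 5) = true := by decide +kernel
theorem permP_blk344 : allRange (guard nn permP) 5 (344 * 2 ^ 5) = true := by decide +kernel
theorem permP_blk345 : allRange (guard nn permP) 5 (345 * 2 ^ 5) = true := by decide +kernel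
theorem permP_blk346 : allRange (guard nn permP) 5 (346 * 2 ^ 5) = true := by decide +kernel
theorem permP_blk347 : allRange (guard nn permP) 5 (347 * 2 ^ 5) = true := by decide +kernel
theorem permP_blk348 : allRange (guard nn permP) 5 (348 * 2 ^ 5) = true := by decide +kernel
theorem permP_blk349 : allRange (guard nn permP) 5 (349 * 2 ^ 5) = true := by decide +kernel
theorem permP_blk350 : allRange (guard nn permP) 5 (350 * 2 ^ 5) = true := by decide +kernel
theorem permP_blk351 : allRange (guard nn permP) 5 (351 * 2 ^ 5) = true := by decide +kernel
theorem permP_blk352 : allRange (guard nn permP) 5 (352 * 2 ^ 5) = true := by decide +kernel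
theorem permP_blk353 : allRange (guard nn permP) 5 (353 * 2 ^ 5) = true := by decide +kernel
theorem permP_blk354 : allRange (guard nn permP) 5 (354 * 2 ^ 5) = true := by decide +kernel
theorem permP_blk355 : allRange (guard nn permP) 5 (355 * 2 ^ 5) = true := by decide +kernel
theorem permP_blk356 : allRange (guard nn permP) 5 (356 * 2 ^ 5) = true := by decide +kernel
theorem permP_blk357 : allRange (guard nn permP) 5 (357 * 2 ^ 5) = true := by decide +kernel
theorem permP_blk358 : allRange (guard nn permP) 5 (358 * 2 ^ 5) = true := by decide +kernel
theorem permP_blk359 : allRange (guard nn permP) 5 (359 * 2 ^ 5) = true := by decide +kernel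
theorem permP_blk360 : allRange (guard nn permP) 5 (360 * 2 ^ 5) = true := by decide +kernel
theorem permP_blk361 : allRange (guard nn permP) 5 (361 * 2 ^ 5) = true := by decide +kernel
theorem permP_blk362 : allRange (guard nn permP) 5 (362 * 2 ^ 5) = true := by decide +kernel
theorem permP_blk363 : allRange (guard nn permP) 5 (363 * 2 ^ 5) = true := by decide +kernel
theorem permP_blk364 : allRange (guard nn permP) 5 (364 * 2 ^ 5) = true := by decide +kernel
theorem permP_blk365 : allRange (guard nn permP) 5 (365 * 2 ^ 5) = true := by decide +kernel
theorem permP_blk366 : allRange (guard nn permP) 5 (366 * 2 ^ 5) = true := by decide +kernel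
theorem permP_blk367 : allRange (guard nn permP) 5 (367 * 2 ^ 5) = true := by decide +kernel
theorem permP_blk368 : allRange (guard nn permP) 5 (368 * 2 ^ 5) = true := by decide +kernel
theorem permP_blk369 : allRange (guard nn permP) 5 (369 * 2 ^ 5) = true := by decide +kernel
theorem permP_blk370 : allRange (guard nn permP) 5 (370 * 2 ^ 5) = true := by decide +kernel
theorem permP_blk371 : allRange (guard nn permP) 5 (371 * 2 ^ 5) = true := by decide +kernel
theorem permP_blk372 : allRange (guard nn permP) 5 (372 * 2 ^ 5) = true := by decide +kernel
theorem permP_blk373 : allRange (guard nn permP) 5 (373 * 2 ^ 5) = true := by decide +kernel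
theorem permP_blk374 : allRange (guard nn permP) 5 (374 * 2 ^ 5) = true := by decide +kernel
theorem permP_blk375 : allRange (guard nn permP) 5 (375 * 2 ^ 5) = true := by decide +kernel
theorem permP_blk376 : allRange (guard nn permP) 5 (376 * 2 ^ 5) = true := by decide +kernel
theorem permP_blk377 : allRange (guard nn permP) 5 (377 * 2 ^ 5) = true := by decide +kernel
theorem permP_blk378 : allRange (guard nn permP) 5 (378 * 2 ^ 5) = true := by decide +kernel
theorem permP_blk379 : allRange (guard nn permP) 5 (379 * 2 ^ 5) = true := by decide +kernel
theorem permP_blk380 : allRange (guard nn permP) 5 (380 * 2 ^ 5) = true := by decide +kernel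
theorem permP_blk381 : allRange (guard nn permP) 5 (381 * 2 ^ 5) = true := by decide +kernel
theorem permP_blk382 : allRange (guard nn permP) 5 (382 * 2 ^ 5) = true := by decide +kernel
theorem permP_blk383 : allRange (guard nn permP) 5 (383 * 2 ^ 5) = true := by decide +kernel
theorem permP_f7 : ∀ k, 336 ≤ k → k < 384 → allRange (guard nn permP) 5 (k * 2 ^ 5) = true := by
  intro k h1 h2
  interval_cases k
  · exact permP_blk336
  · exact permP_blk337
  · exact permP_blk338
  · exact permP_blk339
  · exact permP_blk340
  · exact permP_blk341
  · exact permP_blk342
  · exact permP_blk343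
  · exact permP_blk344
  · exact permP_blk345
  · exact permP_blk346
  · exact permP_blk347
  · exact permP_blk348
  · exact permP_blk349
  · exact permP_blk350
  · exact permP_blk351
  · exact permP_blk352
  · exact permP_blk353
  · exact permP_blk354
  · exact permP_blk355
  · exact permP_blk356
  · exact permP_blk357
  · exact permP_blk358
  · exact permP_blk359
  · exact permP_blk360
  · exact permP_blk361
  · exact permP_blk362
  · exact permP_blk363
  · exact permP_blk364
  · exact permP_blk365
  · exact permP_blk366
  · exact permP_blk367
  · exact permP_blk368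
  · exact permP_blk369
  · exact permP_blk370
  · exact permP_blk371
  · exact permP_blk372
  · exact permP_blk373
  · exact permP_blk374
  · exact permP_blk375
  · exact permP_blk376
  · exact permP_blk377
  · exact permP_blk378
  · exact permP_blk379
  · exact permP_blk380
  · exact permP_blk381
  · exact permP_blk382
  · exact permP_blk383

end

end Cfsg.Agent.Lib.Helper28.Fi23Ord.C14080
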