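import Cfsg.Agent.Lib.Helper28.Fi23Ord.C14080.ChkDefs

set_option autoImplicit false
set_option linter.unusedVariables false
set_option Elab.async false

namespace Cfsg.Agent.Lib.Helper28.Fi23Ord.C14080

open Cfsg.Agent.Lib.Helper28.Fi23Sub.Q9 (Gen)
open Cfsg.Agent.Lib.Helper28.TC

noncomputable section

theorem permP_blk432 : allRange (guard nn permP) 5 (432 * 2 ^ 5) = true := by decide +kernel
theorem permP_blk433 : allRange (guard nn permP) 5 (433 * 2 ^ 5) = true := by decide +kernel
theorem permP_blk434 : allRange (guard nn permP) 5 (434 * 2 ^ 5) = true := by decide +kernel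
theorem permP_blk435 : allRange (guard nn permP) 5 (435 * 2 ^ 5) = true := by decide +kernel
theorem permP_blk436 : allRange (guard nn permP) 5 (436 * 2 ^ 5) = true := by decide +kernel
theorem permP_blk437 : allRange (guard nn permP) 5 (437 * 2 ^ 5) = true := by decide +kernel
theorem permP_blk438 : allRange (guard nn permP) 5 (438 * 2 ^ 5) = true := by decide +kernel
theorem permP_blk439 : allRange (guard nn permP) 5 (439 * 2 ^ 5) = true := by decide +kernel
theorem permP_f9 : ∀ k, 432 ≤ k → k < 440 → allRange (guard nn permP) 5 (k * 2 ^ 5) = true := by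
  intro k h1 h2
  interval_cases k
  · exact permP_blk432
  · exact permP_blk433
  · exact permP_blk434
  · exact permP_blk435
  · exact permP_blk436
  · exact permP_blk437
  · exact permP_blk438
  · exact permP_blk439

end

end Cfsg.Agent.Lib.Helper28.Fi23Ord.C14080
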